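import Cfsg.Agent.Lib.FusionFam.Table
import Cfsg.Agent.Lib.FusionQuot.Parabolic
import Mathlib.GroupTheory.Sylow

/-!
A computable certificate for the simplicity of the 2-fusion system of a coded group whose Sylow
normalizer is generated through one self-centralizing subgroup.
-/

set_option autoImplicit false

namespace CfsgLib.FusionFam

open Cfsg Cfsg.FusionSystem CfsgLib.Fusion CfsgLib.FusionQuot

/-- The data. -/
structure Cert where
  gensL : List ℕ
  L : List ℕ
  parL : List (ℕ × ℕ)
  z : ℕ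
  gensC : List ℕ
  invsC : List ℕ
  K : List ℕ
  parK : List (ℕ × ℕ)
  rs : List ℕ
  wit : List ℕ
  t : ℕ
  u : ℕ
  v : ℕ
  gensR : List ℕ
  LR : List ℕ
  parR : List (ℕ × ℕ)
  conjs : List ℕ
  slp : List (Bool × ℕ × ℕ × ℕ)

/-- The elements which must lie in the group. -/
def Cert.members (E : Cert) : List ℕ :=
  E.gensL ++ E.gensC ++ E.invsC ++ E.rs ++ [E.u, E.v] ++ E.gensR ++ E.conjs

variable (mul : ℕ → ℕ → ℕ) (one : ℕ)

/-- The element with a given index. -/
def Cert.el (E : Cert) (i : ℕ) : ℕ := E.L.getD i 0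

/-- One step of the program: a product, or a conjugate. -/
def Cert.stepOK (E : Cert) (known : List ℕ) : Bool × ℕ × ℕ × ℕ → Bool
  | (false, i, j, l) => known.contains i && known.contains j && (E.el l == mul (E.el i) (E.el j))
  | (true, i, g, l) => known.contains i && decide (g < E.conjs.length) &&
      (mul (E.conjs.getD g 0) (E.el i) == mul (E.el l) (E.conjs.getD g 0))

/-- Run the program. -/
def Cert.run (E : Cert) : List (Bool × ℕ × ℕ × ℕ) → List ℕ → Option (List ℕ)
  | [], known => some known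
  | s :: rest, known =>
    if E.stepOK mul known s && decide (s.2.2.2 < E.L.length) then E.run rest (s.2.2.2 :: known)
    else none

/-- The centre of the Sylow subgroup. -/
def Cert.centerB (E : Cert) : Bool :=
  decide (E.z < E.L.length) && !(E.el E.z == one) &&
  (E.gensL.all fun h => mul h (E.el E.z) == mul (E.el E.z) h) &&
  E.L.all fun c => (c == one) || (c == E.el E.z) || E.gensL.any fun h => !(mul c h == mul h c)

/-- The cosets in the centralizer. -/
def Cert.cosetB (E : Cert) : Bool :=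
  (E.rs.all fun r => mul r (E.el E.z) == mul (E.el E.z) r) &&
  (List.range E.rs.length).all fun j =>
    let T := E.L.map fun l => mul l (E.rs.getD j 0)
    (List.range j).all fun i => !T.contains (E.rs.getD i 0)

/-- The normalizer of the Sylow subgroup. -/
def Cert.normB (E : Cert) : Bool :=
  (List.range E.rs.length).all fun i =>
    (E.rs.getD i 0 == one) || (E.rs.getD i 0 == E.t) || (E.rs.getD i 0 == mul E.t E.t) ||
      (decide (E.wit.getD i 0 < E.gensL.length) &&
        !((E.L.map fun l => mul l (E.rs.getD i 0)).contains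
          (mul (E.rs.getD i 0) (E.gensL.getD (E.wit.getD i 0) 0))))

/-- The self-centralizing subgroup. -/
def Cert.famB (E : Cert) : Bool :=
  (E.LR.all fun c => E.L.contains c) && E.LR.contains (E.el E.z) &&
  (E.rs.all fun r => E.L.all fun l =>
    E.gensR.any (fun x => !(mul (mul l r) x == mul x (mul l r))) || E.LR.contains (mul l r)) &&
  (E.t == mul E.u E.v) && (mul E.u E.u == one) && (mul E.v E.v == one) &&
  [E.u, E.v].all fun a =>
    let T := E.LR.map fun l => mul l a
    E.gensR.all fun x => T.contains (mul a x)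

/-- The strongly closed subgroup program. -/
def Cert.slpB (E : Cert) : Bool :=
  match E.run mul E.slp [E.z] with
  | some known => E.gensL.all fun h => known.any fun i => E.el i == h
  | none => false

/-- All checks but the one on the order of the centralizer. -/
def Cert.core (E : Cert) : Bool :=
  tabB mul one E.gensL E.L E.parL && tabB mul one E.gensR E.LR E.parR &&
    E.centerB mul one && E.cosetB mul && E.normB mul one && E.famB mul one && E.slpB mul

/-- All checks. -/
def Cert.check (E : Cert) : Bool :=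
  E.core mul one && classB mul one (E.el E.z) E.gensC E.invsC E.K E.parK

variable {Γ : Type*} [Group Γ] [Finite Γ]

/-- The coding composed with conjugation. -/
def Coding.conj (C : Coding Γ) (c : Γ) : Coding Γ where
  mul := C.mul
  one := C.one
  κ g := C.κ (c * g * c⁻¹)
  inj a b h := by simpa using C.inj h
  κ_one := by simp [C.κ_one]
  κ_mul a b := by rw [← C.κ_mul]; congr 1; group

theorem isSimple_aux (C : Coding Γ) (E : Cert) (hcheck : E.core C.mul C.one = true)
    (hmem : ∀ c ∈ E.members, ∃ g : Γ, C.κ g = c)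
    {k : ℕ} (hLk : E.L.length = 2 ^ k) (hk : 0 < k)
    (hbound : ∀ z : Γ, C.κ z = E.el E.z →
      Nat.card (Subgroup.centralizer ({z} : Set Γ)) ≤ E.rs.length * E.L.length)
    (S : Sylow 2 Γ) (hS : ∀ g, g ∈ (S : Subgroup Γ) ↔ C.κ g ∈ E.L) :
    (groupFusionSystem (S : Subgroup Γ)).IsSimple 2 := by
  classical
  simp only [Cert.core, Bool.and_eq_true] at hcheck
  obtain ⟨⟨⟨⟨⟨⟨hL, hR⟩, hcent⟩, hcos⟩, hnorm⟩, hfam⟩, hslp⟩ := hcheck
  have hm : ∀ l : List ℕ, (∀ c ∈ l, c ∈ E.members) → ∀ c ∈ l, ∃ g : Γ, C.κ g = c :=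
    fun l hl c hc => hmem c (hl c hc)
  obtain ⟨H, hH, hHex, hHcard, hHgen⟩ := C.table hL (hm _ fun c hc => by simp [Cert.members, hc])
  obtain ⟨R, hRmem, hRex, hRcard, hRgen⟩ := C.table hR (hm _ fun c hc => by simp [Cert.members, hc])
  have hSH : (S : Subgroup Γ) = H := Subgroup.ext fun g => (hS g).trans (hH g).symm
  simp only [Cert.centerB, Bool.and_eq_true, decide_eq_true_eq, List.all_eq_true, Bool.or_eq_true,
    beq_iff_eq, List.any_eq_true, Bool.not_eq_true', beq_eq_false_iff_ne] at hcent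
  obtain ⟨⟨⟨hz, hzne⟩, hzgen⟩, hcen⟩ := hcent
  have helmem : ∀ i < E.L.length, E.el i ∈ E.L := fun i hi => by
    rw [Cert.el, List.getD_eq_getElem _ _ hi]; exact List.getElem_mem hi
  obtain ⟨z, hzH, hzc⟩ := hHex _ (helmem _ hz)
  have hz1 : z ≠ 1 := fun e => hzne (by rw [← hzc, e, C.κ_one])
  -- the centre of the Sylow subgroup
  have hcenter : ∀ y ∈ H, (∀ s ∈ H, s * y = y * s) → y = 1 ∨ y = z := by
    intro y hy hys
    rcases hcen _ ((hH y).1 hy) with (h | h) | ⟨c, hc, hne⟩
    · exact Or.inl (C.inj (h.trans C.κ_one.symm))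
    · exact Or.inr (C.inj (h.trans hzc.symm))
    · obtain ⟨s, hs⟩ := hmem c (by simp [Cert.members, hc])
      have hsH : s ∈ H := by rw [hHgen]; exact Subgroup.subset_closure (show C.κ s ∈ E.gensL by rwa [hs])
      exact absurd (by rw [← hs, ← C.κ_mul, ← C.κ_mul, hys s hsH]) hne
  -- the centralizer of the central involution
  simp only [Cert.cosetB, Bool.and_eq_true, List.all_eq_true, beq_iff_eq, List.mem_range,
    Bool.not_eq_true', List.contains_eq_mem, decide_eq_false_iff_not] at hcos
  obtain ⟨hrz, hdist⟩ := hcos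
  have hrsmem : ∀ i < E.rs.length, E.rs.getD i 0 ∈ E.rs := fun i hi => by
    rw [List.getD_eq_getElem _ _ hi]; exact List.getElem_mem hi
  have hrex : ∀ i : Fin E.rs.length, ∃ r : Γ, C.κ r = E.rs.getD i 0 := fun i =>
    hmem _ (by simp [Cert.members, hrsmem i i.2])
  choose r hr using hrex
  have hrc : ∀ i, r i * z = z * r i := fun i => C.inj (by
    rw [C.κ_mul, C.κ_mul, hr, hzc]; exact hrz _ (hrsmem i i.2))
  set Z := Subgroup.centralizer ({z} : Set Γ)
  have hHZ : H ≤ Z := by
    rw [hHgen, Subgroup.closure_le]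
    intro g hg
    rw [SetLike.mem_coe, Subgroup.mem_centralizer_singleton_iff]
    exact C.inj (by rw [C.κ_mul, C.κ_mul, hzc]; exact hzgen _ hg)
  have hZcard : Nat.card Z ≤ E.rs.length * E.L.length := hbound z hzc
  let φ : H × Fin E.rs.length → Z := fun q => ⟨q.1 * r q.2,
    Z.mul_mem (hHZ q.1.2) (Subgroup.mem_centralizer_singleton_iff.2 (hrc q.2))⟩
  have hφinj : Function.Injective φ := by
    rintro ⟨a, i⟩ ⟨b, j⟩ he
    have he' : (a : Γ) * r i = b * r j := congrArg Subtype.val he
    have key : ∀ (a b : H) (i j : Fin E.rs.length), (i : ℕ) < j → (a : Γ) * r i ≠ b * r j := by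
      intro a b i j hij he
      have e : r i = ((a : Γ)⁻¹ * b) * r j := by rw [mul_assoc, ← he]; group
      refine hdist j j.2 i hij (List.mem_map.2 ⟨_, (hH _).1 (H.mul_mem (H.inv_mem a.2) b.2), ?_⟩)
      rw [← hr j, ← C.κ_mul, ← e, hr i]
    rcases lt_trichotomy (i : ℕ) j with h | h | h
    · exact absurd he' (key a b i j h)
    · obtain rfl : i = j := Fin.ext h
      exact Prod.ext (Subtype.ext (mul_right_cancel he')) rfl
    · exact absurd he'.symm (key b a j i h)
  have hφsurj : Function.Surjective φ := by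
    refine (Nat.bijective_iff_injective_and_card φ).2 ⟨hφinj, ?_⟩ |>.2
    have h1 : Nat.card (H × Fin E.rs.length) = E.rs.length * E.L.length := by
      rw [Nat.card_prod, hHcard, Nat.card_eq_fintype_card, Fintype.card_fin, mul_comm]
    exact le_antisymm (Nat.card_le_card_of_injective φ hφinj) (h1 ▸ hZcard)
  have hZ : ∀ g, g * z = z * g → ∃ h ∈ H, ∃ i, g = h * r i := fun g hg => by
    obtain ⟨⟨⟨h, hh⟩, i⟩, e⟩ := hφsurj ⟨g, Subgroup.mem_centralizer_singleton_iff.2 hg⟩
    exact ⟨h, hh, i, (congrArg Subtype.val e).symm⟩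
  -- the family
  simp only [Cert.famB, Bool.and_eq_true, List.all_eq_true, List.any_eq_true, Bool.or_eq_true,
    beq_iff_eq, Bool.not_eq_true', beq_eq_false_iff_ne, List.contains_eq_mem,
    decide_eq_true_eq] at hfam
  obtain ⟨⟨⟨⟨⟨⟨hRsub, hRz⟩, hRC⟩, htuv⟩, huu⟩, hvv⟩, huvR⟩ := hfam
  have hRle : R ≤ (S : Subgroup Γ) := fun g hg => (hS g).2 (hRsub _ ((hRmem g).1 hg))
  have hzR : z ∈ R := (hRmem z).2 (by rw [hzc]; exact hRz)
  have hCR : Subgroup.centralizer (R : Set Γ) ≤ R := by
    intro g hg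
    obtain ⟨h, hh, i, rfl⟩ := hZ g (Subgroup.mem_centralizer_iff.1 hg z hzR).symm
    rw [hRmem, C.κ_mul, hr]
    rcases hRC _ (hrsmem i i.2) _ ((hH h).1 hh) with ⟨c, hc, hne⟩ | hin
    · obtain ⟨x, hx⟩ := hmem c (by simp [Cert.members, hc])
      have hxR : x ∈ R := by
        rw [hRgen]; exact Subgroup.subset_closure (show C.κ x ∈ E.gensR by rwa [hx])
      exact absurd (by rw [← hx, ← hr, ← C.κ_mul, ← C.κ_mul, ← C.κ_mul,
        Subgroup.mem_centralizer_iff.1 hg x hxR]) hne
    · exact hin
  have hinvol : ∀ c ∈ [E.u, E.v], ∀ a : Γ, C.κ a = c → a * a = 1 →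
      a ∈ pResidualNormalizer 2 R := by
    intro c hc a hac haa
    have hconj : ∀ x ∈ R, a * x * a⁻¹ ∈ R := by
      have hle : R ≤ R.comap (MulAut.conj a).toMonoidHom := by
        conv_lhs => rw [hRgen]
        rw [Subgroup.closure_le]
        intro x hx
        obtain ⟨l, hl, hle⟩ := List.mem_map.1 (huvR c hc _ hx)
        obtain ⟨y, hy, rfl⟩ := hRex l hl
        rw [← hac, ← C.κ_mul, ← C.κ_mul] at hle
        show a * x * a⁻¹ ∈ R
        rw [← C.inj hle, mul_inv_cancel_right]
        exact hy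
      exact fun x hx => hle hx
    refine mem_pResidualNormalizer (n := 1) (Subgroup.mem_normalizer_iff.2 fun x => ⟨hconj x, fun h => ?_⟩)
      (by rw [pow_one, pow_two, haa])
    have h2 := hconj _ h
    rwa [show a * (a * x * a⁻¹) * a⁻¹ = (a * a) * x * (a * a)⁻¹ by group, haa, one_mul, inv_one,
      mul_one] at h2
  obtain ⟨u, hu⟩ := hmem E.u (by simp [Cert.members])
  obtain ⟨v, hv⟩ := hmem E.v (by simp [Cert.members])
  have huv : u * v ∈ pResidualNormalizer 2 R := Subgroup.mul_mem _
    (hinvol E.u (by simp) u hu (C.inj (by rw [C.κ_mul, hu, huu, C.κ_one])))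
    (hinvol E.v (by simp) v hv (C.inj (by rw [C.κ_mul, hv, hvv, C.κ_one])))
  -- the normalizer
  simp only [Cert.normB, List.all_eq_true, List.mem_range, Bool.or_eq_true, Bool.and_eq_true,
    beq_iff_eq, decide_eq_true_eq, Bool.not_eq_true', List.contains_eq_mem,
    decide_eq_false_iff_not] at hnorm
  have hgen : Subgroup.normalizer ((S : Subgroup Γ) : Set Γ) ≤ (S : Subgroup Γ) ⊔
      ⨆ _ : Unit, Subgroup.normalizer ((S : Subgroup Γ) : Set Γ) ⊓ pResidualNormalizer 2 R := by
    intro g hg
    have hgz : g * z = z * g := by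
      have hy : g * z * g⁻¹ ∈ H := hSH ▸ (Subgroup.mem_normalizer_iff.1 hg z).1 (hSH ▸ hzH)
      rcases hcenter _ hy fun s hs => by
        have hs' : g⁻¹ * s * g ∈ H := hSH ▸ ((Subgroup.mem_normalizer_iff.1 hg (g⁻¹ * s * g)).2 (by
          rw [show g * (g⁻¹ * s * g) * g⁻¹ = s by group]; exact hSH ▸ hs))
        have := Subgroup.mem_centralizer_singleton_iff.1 (hHZ hs')
        calc s * (g * z * g⁻¹) = g * ((g⁻¹ * s * g) * z) * g⁻¹ := by group
          _ = g * (z * (g⁻¹ * s * g)) * g⁻¹ := by rw [this]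
          _ = g * z * g⁻¹ * s := by group
        with h | h
      · exact absurd (by simpa using h) hz1
      · exact mul_inv_eq_iff_eq_mul.1 h
    obtain ⟨h, hh, i, rfl⟩ := hZ g hgz
    have hri : r i ∈ Subgroup.normalizer ((S : Subgroup Γ) : Set Γ) := by
      have := Subgroup.mul_mem _ (Subgroup.inv_mem _ (Subgroup.le_normalizer (hSH ▸ hh : h ∈ (S : Subgroup Γ)))) hg
      rwa [inv_mul_cancel_left] at this
    have htuv' : C.κ (u * v) = E.t := by rw [C.κ_mul, hu, hv, htuv]
    refine Subgroup.mul_mem _ (Subgroup.mem_sup_left (hSH ▸ hh)) ?_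
    rcases hnorm i i.2 with ((h1 | h1) | h1) | ⟨hw, hw'⟩
    · rw [← hr, ← C.κ_one] at h1
      rw [C.inj h1]
      exact Subgroup.one_mem _
    · rw [← hr, ← htuv'] at h1
      rw [C.inj h1] at hri ⊢
      exact Subgroup.mem_sup_right (Subgroup.mem_iSup_of_mem () ⟨hri, huv⟩)
    · rw [← hr, ← htuv', ← C.κ_mul] at h1
      rw [C.inj h1] at hri ⊢
      exact Subgroup.mem_sup_right (Subgroup.mem_iSup_of_mem () ⟨hri, Subgroup.mul_mem _ huv huv⟩)
    · refine absurd ?_ hw'
      have hwm : E.gensL.getD (E.wit.getD i 0) 0 ∈ E.gensL := by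
        rw [List.getD_eq_getElem _ _ hw]; exact List.getElem_mem hw
      obtain ⟨x, hx⟩ := hmem (E.gensL.getD (E.wit.getD i 0) 0) (by
        simp only [Cert.members, List.mem_append]; tauto)
      have hxH : x ∈ H := by
        rw [hHgen]; exact Subgroup.subset_closure (show C.κ x ∈ E.gensL by rwa [hx])
      have h2 : r i * x * (r i)⁻¹ ∈ H := hSH ▸ (Subgroup.mem_normalizer_iff.1 hri x).1 (hSH ▸ hxH)
      refine List.mem_map.2 ⟨_, (hH _).1 h2, ?_⟩
      rw [← hr, ← hx, ← C.κ_mul, ← C.κ_mul, inv_mul_cancel_right]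
  refine isSimple_of_family S ?_ (fun T hT => ?_) (fun _ : Unit => R) (fun _ => hRle) (fun _ => hCR)
    hgen
  · intro h
    rw [hSH] at h
    rw [h, Subgroup.card_bot, hLk] at hHcard
    exact absurd hHcard.symm (Nat.one_lt_two_pow hk.ne').ne'
  -- strongly closed subgroups
  by_cases hTbot : T = ⊥
  · exact Or.inl hTbot
  refine Or.inr ?_
  have hTS : T ≤ (S : Subgroup Γ) := hT.1
  obtain ⟨y, hyT, hy1, hys⟩ := exists_central_of_stronglyClosed S.2 hT hTbot
  have hzT : z ∈ T := by
    rcases hcenter y (hSH ▸ hTS hyT) (fun s hs => hys s (hSH ▸ hs)) with h | h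
    · exact absurd h hy1
    · exact h ▸ hyT
  have hrun : ∀ (steps : List (Bool × ℕ × ℕ × ℕ)) (known fin : List ℕ),
      E.run C.mul steps known = some fin → (∀ i ∈ known, ∃ x ∈ T, C.κ x = E.el i) →
      ∀ i ∈ fin, ∃ x ∈ T, C.κ x = E.el i := by
    intro steps
    induction steps with
    | nil =>
      intro known fin h hk
      simp only [Cert.run, Option.some.injEq] at h
      exact h ▸ hk
    | cons s rest ih =>
      intro known fin h hk
      simp only [Cert.run] at h
      split at h
      case isFalse => simp at h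
      case isTrue hs =>
        refine ih _ _ h fun i hi => ?_
        rcases List.mem_cons.1 hi with rfl | hi
        case inr => exact hk i hi
        simp only [Bool.and_eq_true, decide_eq_true_eq] at hs
        obtain ⟨hs, hlen⟩ := hs
        obtain ⟨b, i, j, l⟩ := s
        cases b with
        | false =>
          simp only [Cert.stepOK, Bool.and_eq_true, List.contains_eq_mem, decide_eq_true_eq,
            beq_iff_eq] at hs
          obtain ⟨a, ha, hac⟩ := hk i hs.1.1
          obtain ⟨a', ha', hac'⟩ := hk j hs.1.2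
          exact ⟨a * a', T.mul_mem ha ha', by rw [C.κ_mul, hac, hac', hs.2]⟩
        | true =>
          simp only [Cert.stepOK, Bool.and_eq_true, List.contains_eq_mem, decide_eq_true_eq,
            beq_iff_eq] at hs
          obtain ⟨a, ha, hac⟩ := hk i hs.1.1
          obtain ⟨y, hy, hyc⟩ := hHex _ (helmem l hlen)
          have hjc : E.conjs.getD j 0 ∈ E.conjs := by
            rw [List.getD_eq_getElem _ _ hs.1.2]
            exact List.getElem_mem _
          obtain ⟨g, hg⟩ := hmem _ (show E.conjs.getD j 0 ∈ E.members by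
            simp only [Cert.members, List.mem_append]; tauto)
          have hgy : g * a = y * g := C.inj (by rw [C.κ_mul, C.κ_mul, hg, hac, hyc]; exact hs.2)
          have hval : ∀ x : Subgroup.zpowers a, g * (x : Γ) * g⁻¹ ∈ (S : Subgroup Γ) := by
            rintro ⟨_, q, rfl⟩
            show g * a ^ q * g⁻¹ ∈ (S : Subgroup Γ)
            rw [← conj_zpow, hgy, mul_inv_cancel_right, hSH]
            exact H.zpow_mem hy q
          have hφ : conjHom (Subgroup.zpowers a) g ∈
              (groupFusionSystem (S : Subgroup Γ)).Hom (Subgroup.zpowers a) :=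
            ⟨Subgroup.zpowers_le.2 (hTS ha), hval, g, fun x => rfl⟩
          have h1 : g * a * g⁻¹ ∈ T :=
            hT.2 _ (Subgroup.zpowers_le.2 ha) _ hφ ⟨a, Subgroup.mem_zpowers a⟩
          rw [hgy, mul_inv_cancel_right] at h1
          exact ⟨y, h1, hyc⟩
  simp only [Cert.slpB] at hslp
  split at hslp
  case h_2 => simp at hslp
  case h_1 fin hfin =>
    have hall := hrun _ _ _ hfin (fun i hi => by rw [List.mem_singleton.1 hi]; exact ⟨z, hzT, hzc⟩)
    simp only [List.all_eq_true, List.any_eq_true, beq_iff_eq] at hslp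
    refine le_antisymm hTS ?_
    rw [hSH, hHgen, Subgroup.closure_le]
    intro g hg
    obtain ⟨i, hi, hie⟩ := hslp _ hg
    obtain ⟨x, hx, hxc⟩ := hall i hi
    rw [C.inj (hie ▸ hxc : C.κ x = C.κ g)] at hx
    exact hx

/-- The certificate theorem, given the order of the centralizer. -/
theorem isSimple_of_core (C : Coding Γ) (E : Cert) (hcheck : E.core C.mul C.one = true)
    (hmem : ∀ c ∈ E.members, ∃ g : Γ, C.κ g = c)
    {k o : ℕ} (hLk : E.L.length = 2 ^ k) (hk : 0 < k) (ho : o % 2 = 1)
    (hcardΓ : Nat.card Γ = 2 ^ k * o)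
    (hbound : ∀ z : Γ, C.κ z = E.el E.z →
      Nat.card (Subgroup.centralizer ({z} : Set Γ)) ≤ E.rs.length * E.L.length) (S : Sylow 2 Γ) :
    (groupFusionSystem (S : Subgroup Γ)).IsSimple 2 := by
  classical
  have hL : tabB C.mul C.one E.gensL E.L E.parL = true := by
    simp only [Cert.core, Bool.and_eq_true] at hcheck
    exact hcheck.1.1.1.1.1.1
  obtain ⟨H, hH, -, hHcard, -⟩ := C.table hL fun c hc => hmem c (by simp [Cert.members, hc])
  have hfac : (Nat.card Γ).factorization 2 = k := by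
    have hodd : ¬ 2 ∣ o := by omega
    rw [hcardΓ, Nat.factorization_mul (by positivity) (by omega)]
    simp [Nat.Prime.factorization_pow Nat.prime_two, Nat.factorization_eq_zero_of_not_dvd hodd]
  let S₀ : Sylow 2 Γ := Sylow.ofCard H (by rw [hHcard, hLk, hfac])
  obtain ⟨c, hc⟩ := MulAction.exists_smul_eq Γ S S₀
  refine isSimple_aux (C.conj c) E hcheck (fun x hx => ?_) hLk hk (fun z hz => ?_) S fun g => ?_
  · obtain ⟨g, hg⟩ := hmem x hx
    refine ⟨c⁻¹ * g * c, ?_⟩
    show C.κ (c * (c⁻¹ * g * c) * c⁻¹) = x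
    rw [← hg]; congr 1; group
  · refine (Nat.card_congr ((MulAut.conj c).toEquiv.subtypeEquiv fun x => ?_)).trans_le (hbound _ hz)
    simp only [Subgroup.mem_centralizer_singleton_iff]
    show x * z = z * x ↔ c * x * c⁻¹ * (c * z * c⁻¹) = c * z * c⁻¹ * (c * x * c⁻¹)
    rw [show c * x * c⁻¹ * (c * z * c⁻¹) = c * (x * z) * c⁻¹ by group,
      show c * z * c⁻¹ * (c * x * c⁻¹) = c * (z * x) * c⁻¹ by group, mul_left_inj, mul_right_inj]
  · show g ∈ (S : Subgroup Γ) ↔ C.κ (c * g * c⁻¹) ∈ E.L
    rw [← hH, show H = (S₀ : Subgroup Γ) from rfl, ← hc, ← SetLike.mem_coe,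
      ← SetLike.mem_coe (p := ((c • S : Sylow 2 Γ) : Subgroup Γ)), Sylow.coe_subgroup_smul]
    exact (Subgroup.smul_mem_pointwise_smul_iff (a := MulAut.conj c)).symm

/-- The certificate theorem. -/
theorem isSimple_of_cert (C : Coding Γ) (E : Cert) (hcheck : E.check C.mul C.one = true)
    (hmem : ∀ c ∈ E.members, ∃ g : Γ, C.κ g = c)
    {k o : ℕ} (hLk : E.L.length = 2 ^ k) (hk : 0 < k) (ho : o % 2 = 1)
    (hcardo : E.K.length * E.rs.length = o)
    (hcardΓ : E.K.length * (E.rs.length * E.L.length) = Nat.card Γ) (S : Sylow 2 Γ) :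
    (groupFusionSystem (S : Subgroup Γ)).IsSimple 2 := by
  simp only [Cert.check, Bool.and_eq_true] at hcheck
  obtain ⟨hcore, hK⟩ := hcheck
  refine isSimple_of_core C E hcore hmem hLk hk ho ?_ (fun z hz => ?_) S
  · rw [← hcardΓ, hLk, ← hcardo]; ring
  · rw [← hz] at hK
    have h1 := C.card_centralizer_mul_le hK fun c hc => hmem c (by
      rcases List.mem_append.1 hc with hc | hc <;> simp [Cert.members, hc])
    have hpos : 0 < E.K.length := by
      rcases Nat.eq_zero_or_pos E.K.length with h | h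
      · rw [h, zero_mul] at hcardΓ; exact absurd hcardΓ.symm Nat.card_pos.ne'
      · exact h
    rw [mul_comm, ← hcardΓ] at h1
    exact Nat.le_of_mul_le_mul_left h1 hpos

/-- The cosets form a subgroup: each product of a representative with a generator is listed. -/
def Cert.closedB (E : Cert) (ix : List (List (ℕ × ℕ))) : Bool :=
  (E.rs.getD 0 0 == one) && decide (0 < E.rs.length) &&
  (List.range E.rs.length).all fun i => (List.range (E.gensL ++ E.rs).length).all fun q =>
    decide (((ix.getD i []).getD q (0, 0)).1 < E.L.length) &&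
      decide (((ix.getD i []).getD q (0, 0)).2 < E.rs.length) &&
      (mul (E.rs.getD i 0) ((E.gensL ++ E.rs).getD q 0) ==
        mul (E.el ((ix.getD i []).getD q (0, 0)).1) (E.rs.getD ((ix.getD i []).getD q (0, 0)).2 0))

/-- A weak bound on the centralizer suffices when the cosets form a subgroup. -/
theorem bound_of_lt_two_mul (C : Coding Γ) (E : Cert) (hcheck : E.core C.mul C.one = true)
    {ix : List (List (ℕ × ℕ))} (hcl : E.closedB C.mul C.one ix = true)
    (hmem : ∀ c ∈ E.members, ∃ g : Γ, C.κ g = c) {z : Γ} (hz : C.κ z = E.el E.z)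
    (hlt : Nat.card (Subgroup.centralizer ({z} : Set Γ)) < 2 * (E.rs.length * E.L.length)) :
    Nat.card (Subgroup.centralizer ({z} : Set Γ)) ≤ E.rs.length * E.L.length := by
  classical
  simp only [Cert.core, Bool.and_eq_true] at hcheck
  obtain ⟨⟨⟨⟨⟨⟨hL, -⟩, hcent⟩, hcos⟩, -⟩, -⟩, -⟩ := hcheck
  obtain ⟨H, hH, hHex, hHcard, hHgen⟩ := C.table hL fun c hc => hmem c (by simp [Cert.members, hc])
  simp only [Cert.centerB, Bool.and_eq_true, decide_eq_true_eq, List.all_eq_true, beq_iff_eq] at hcent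
  obtain ⟨⟨-, hzgen⟩, -⟩ := hcent
  simp only [Cert.cosetB, Bool.and_eq_true, List.all_eq_true, beq_iff_eq, List.mem_range,
    Bool.not_eq_true', List.contains_eq_mem, decide_eq_false_iff_not] at hcos
  obtain ⟨hrz, hdist⟩ := hcos
  simp only [Cert.closedB, Bool.and_eq_true, List.all_eq_true, List.mem_range, decide_eq_true_eq,
    beq_iff_eq] at hcl
  obtain ⟨⟨hone, hpos⟩, hstep⟩ := hcl
  have hget : ∀ (l : List ℕ) i, i < l.length → l.getD i 0 ∈ l := fun l i hi => by
    rw [List.getD_eq_getElem _ _ hi]; exact List.getElem_mem hi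
  have hrex : ∀ i : Fin E.rs.length, ∃ r : Γ, C.κ r = E.rs.getD i 0 := fun i =>
    hmem _ (by have := hget E.rs i i.2; simp only [Cert.members, List.mem_append]; tauto)
  choose r hr using hrex
  set A : Set Γ := {g | C.κ g ∈ E.gensL ++ E.rs}
  set D := Subgroup.closure A
  have hDZ : D ≤ Subgroup.centralizer ({z} : Set Γ) := by
    rw [Subgroup.closure_le]
    intro g hg
    rw [SetLike.mem_coe, Subgroup.mem_centralizer_singleton_iff]
    refine C.inj ?_
    rw [C.κ_mul, C.κ_mul, hz]
    rcases List.mem_append.1 hg with h | h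
    · exact hzgen _ h
    · exact hrz _ h
  have hHD : H ≤ D := by
    rw [hHgen]; exact Subgroup.closure_mono fun g hg => List.mem_append_left _ hg
  have hrD : ∀ i, r i ∈ D := fun i => Subgroup.subset_closure
    (show C.κ (r i) ∈ E.gensL ++ E.rs by rw [hr]; exact List.mem_append_right _ (hget _ _ i.2))
  let φ : H × Fin E.rs.length → D := fun q => ⟨q.1 * r q.2, D.mul_mem (hHD q.1.2) (hrD q.2)⟩
  have hφinj : Function.Injective φ := by
    rintro ⟨a, i⟩ ⟨b, j⟩ he
    have he' : (a : Γ) * r i = b * r j := congrArg Subtype.val he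
    have key : ∀ (a b : H) (i j : Fin E.rs.length), (i : ℕ) < j → (a : Γ) * r i ≠ b * r j := by
      intro a b i j hij he
      have e : r i = ((a : Γ)⁻¹ * b) * r j := by rw [mul_assoc, ← he]; group
      refine hdist j j.2 i hij (List.mem_map.2 ⟨_, (hH _).1 (H.mul_mem (H.inv_mem a.2) b.2), ?_⟩)
      rw [← hr j, ← C.κ_mul, ← e, hr i]
    rcases lt_trichotomy (i : ℕ) j with h | h | h
    · exact absurd he' (key a b i j h)
    · obtain rfl : i = j := Fin.ext h
      exact Prod.ext (Subtype.ext (mul_right_cancel he')) rfl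
    · exact absurd he'.symm (key b a j i h)
  have hall : ∀ g ∈ D, ∃ h ∈ H, ∃ i, g = h * r i := by
    intro g hg
    have hg' : g ∈ Submonoid.closure A := by
      rwa [← Subgroup.closure_toSubmonoid_of_finite, Subgroup.mem_toSubmonoid]
    clear hg
    induction hg' using Submonoid.closure_induction_right with
    | one => exact ⟨1, H.one_mem, ⟨0, hpos⟩, by
        rw [one_mul]; exact C.inj (by rw [hr, C.κ_one]; exact hone.symm)⟩
    | mul_right x _ y hy ih =>
      obtain ⟨h, hh, i, rfl⟩ := ih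
      obtain ⟨q, hq, hqe⟩ := List.getElem_of_mem hy
      obtain ⟨⟨hl, hj⟩, he⟩ := hstep i i.2 q hq
      rw [List.getD_eq_getElem _ _ hq, hqe] at he
      obtain ⟨w, hw, hwc⟩ := hHex _ (hget _ _ hl)
      exact ⟨h * w, H.mul_mem hh hw, ⟨_, hj⟩, by
        rw [mul_assoc, mul_assoc]; congr 1
        exact C.inj (by rw [C.κ_mul, C.κ_mul, hr, hr, hwc]; exact he)⟩
  have hDcard : Nat.card D = E.rs.length * E.L.length := by
    rw [← Nat.card_eq_of_bijective φ ⟨hφinj, fun ⟨g, hg⟩ => ?_⟩, Nat.card_prod, hHcard,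
      Nat.card_eq_fintype_card, Fintype.card_fin, mul_comm]
    obtain ⟨h, hh, i, rfl⟩ := hall g hg
    exact ⟨(⟨h, hh⟩, i), rfl⟩
  obtain ⟨m, hm⟩ := Subgroup.card_dvd_of_le hDZ
  have hm1 : m < 2 := by
    rw [hm, hDcard, mul_comm] at hlt
    exact Nat.lt_of_mul_lt_mul_right hlt
  calc Nat.card (Subgroup.centralizer ({z} : Set Γ)) = Nat.card D * m := hm
    _ ≤ Nat.card D * 1 := Nat.mul_le_mul_left _ (by omega)
    _ = E.rs.length * E.L.length := by rw [mul_one, hDcard]

end CfsgLib.FusionFam
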