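import Cfsg.Agent.Lib.FusionFam.J2Data
import Cfsg.Agent.Lib.Sporadic.J2Perm.Main
import Cfsg.Prelude.Def_Spor_J2

/-! The 2-fusion system of the Hall–Janko group on 100 points is simple. -/

set_option autoImplicit false
set_option maxRecDepth 8000

namespace CfsgLib.FusionFam.J2

open Cfsg CfsgLib.Comp.PermCode

/-- The code of a permutation. -/
noncomputable def code (σ : Equiv.Perm (Fin 100)) : ℕ := build 100 fun i => CfsgLib.Comp.PermCode.pt σ i

theorem pt_lt (σ : Equiv.Perm (Fin 100)) {i : ℕ} (hi : i < 100) : CfsgLib.Comp.PermCode.pt σ i < 100 := by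
  rw [CfsgLib.Comp.PermCode.pt, dif_pos hi]; exact (σ _).2

theorem get_code (σ : Equiv.Perm (Fin 100)) {i : ℕ} (hi : i < 100) :
    get (code σ) i = CfsgLib.Comp.PermCode.pt σ i :=
  get_build 100 _ (fun _ hj => (pt_lt σ hj).trans (by norm_num)) i hi

theorem code_injective : Function.Injective code := fun σ τ h => by
  refine Equiv.ext fun i => Fin.ext ?_
  have e : get (code σ) i = get (code τ) i := by rw [h]
  rw [get_code σ i.2, get_code τ i.2] at e
  simpa [CfsgLib.Comp.PermCode.pt] using e

theorem build_congr : ∀ {k : ℕ} {f g : ℕ → ℕ}, (∀ i < k, f i = g i) → build k f = build k g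
  | 0, _, _, _ => rfl
  | k + 1, f, g, h => by
    rw [build_succ, build_succ, build_congr fun i hi => h i (by omega), h k (by omega)]

theorem code_mul (σ τ : Equiv.Perm (Fin 100)) : code (σ * τ) = mul 100 (code σ) (code τ) := by
  rw [mul_eq_build, code]
  refine build_congr fun i hi => ?_
  rw [get_code τ hi, get_code σ (pt_lt τ hi)]
  simp [CfsgLib.Comp.PermCode.pt, hi]

theorem code_one : code 1 = one 100 :=
  build_congr fun i hi => by simp [CfsgLib.Comp.PermCode.pt, hi]

theorem code_val {c : ℕ} (h : Ok 100 c) (hc : mul 100 c (one 100) = c) : code (val 100 c) = c := by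
  conv_rhs => rw [← hc]
  rw [mul_eq_build, code]
  refine build_congr fun i hi => ?_
  rw [← act_val h, get_one (by norm_num) hi, act, show Nat.blt i 100 = true by simpa [Nat.blt_eq] using hi]
  rfl

/-- The coding. -/
noncomputable def coding : Coding CfsgLib.J2Perm.J2sub where
  mul := mul 100
  one := one 100
  κ g := code g.1
  inj _ _ h := Subtype.ext (code_injective h)
  κ_one := code_one
  κ_mul _ _ := code_mul _ _

theorem cert_check : cert.check (mul 100) (one 100) = true := by decide +kernel

theorem members_check : (cert.members.all fun c => okb 100 c && sift 100 CfsgLib.J2Perm.j2Chain c &&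
    Nat.beq (mul 100 c (one 100)) c) = true := by decide +kernel

theorem lengths : cert.L.length = 2 ^ 7 ∧ cert.K.length = 315 ∧ cert.rs.length = 15 := by
  decide +kernel

attribute [local irreducible] cert CfsgLib.Comp.PermCode.mul CfsgLib.Comp.PermCode.one
  CfsgLib.Comp.PermCode.build CfsgLib.Comp.PermCode.get

theorem cert_mem : ∀ c ∈ cert.members, ∃ g, coding.κ g = c := by
  intro c hc
  have h := List.all_eq_true.1 members_check c hc
  simp only [Bool.and_eq_true] at h
  obtain ⟨⟨hok, hs⟩, he⟩ := h
  exact ⟨⟨_, mem_span CfsgLib.J2Perm.j2_check hok hs⟩,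
    code_val (ok_of_okb hok) (Nat.eq_of_beq_eq_true he)⟩

theorem isSimple_J2sub (S : Sylow 2 CfsgLib.J2Perm.J2sub) :
    (groupFusionSystem (S : Subgroup CfsgLib.J2Perm.J2sub)).IsSimple 2 := by
  obtain ⟨h1, h2, h3⟩ := lengths
  refine isSimple_of_cert coding cert cert_check cert_mem (k := 7) (o := 4725) h1 (by norm_num)
    (by norm_num) (by rw [h2, h3]) ?_ S
  rw [h1, h2, h3, CfsgLib.J2Perm.card_J2sub]
  norm_num

theorem isSimple_of_equiv {Γ : Type*} [Group Γ] [Finite Γ] (ψ : Γ ≃* CfsgLib.J2Perm.J2sub)
    (S : Sylow 2 Γ) : (groupFusionSystem (S : Subgroup Γ)).IsSimple 2 := by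
  obtain ⟨h1, h2, h3⟩ := lengths
  let C : Coding Γ :=
    { mul := mul 100
      one := one 100
      κ := fun g => coding.κ (ψ g)
      inj := coding.inj.comp ψ.injective
      κ_one := by simp only [map_one]; exact code_one
      κ_mul := fun a b => by simp only [map_mul]; exact code_mul _ _ }
  refine isSimple_of_cert C cert cert_check (fun c hc => ?_) (k := 7) (o := 4725) h1 (by norm_num)
    (by norm_num) (by rw [h2, h3]) ?_ S
  · obtain ⟨g, hg⟩ := cert_mem c hc
    exact ⟨ψ.symm g, by show coding.κ (ψ (ψ.symm g)) = c; rw [ψ.apply_symm_apply, hg]⟩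
  · rw [h1, h2, h3, Nat.card_congr ψ.toEquiv, CfsgLib.J2Perm.card_J2sub]
    norm_num

end CfsgLib.FusionFam.J2
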