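import Cfsg.Agent.Lib.FusionFam.J3Checks
import Cfsg.Agent.Lib.Sporadic.J3.Main

/-! The 2-fusion system of J3 is simple. -/

set_option autoImplicit false

namespace CfsgLib.FusionFam.J3

open Cfsg Cfsg.Spor CfsgLib.J3 Matrix

theorem xor_lt {x y : ℕ} (hx : x < 2 ^ 81) (hy : y < 2 ^ 81) : x ^^^ y < 2 ^ 81 :=
  Nat.xor_lt_two_pow hx hy

theorem outer_lt (a b k : ℕ) : col a k * row b k < 2 ^ 81 :=
  lt_of_le_of_lt (Nat.mul_le_mul Nat.and_le_right Nat.and_le_right) (by decide : colMask * 511 < 2 ^ 81)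

theorem okb_mul (a b : M2) : okb (CfsgLib.J3.mul a b) = true := by
  rw [okb_iff]
  have h0 : ∀ k, t0 a b k < 2 ^ 81 := fun k => xor_lt (outer_lt _ _ _) (outer_lt _ _ _)
  have h1 : ∀ k, t1 a b k < 2 ^ 81 := fun k =>
    xor_lt (xor_lt (outer_lt _ _ _) (outer_lt _ _ _)) (outer_lt _ _ _)
  exact ⟨xor_lt (h0 _) (xor_lt (h0 _) (xor_lt (h0 _) (xor_lt (h0 _) (xor_lt (h0 _) (xor_lt (h0 _)
      (xor_lt (h0 _) (xor_lt (h0 _) (h0 _)))))))),
    xor_lt (h1 _) (xor_lt (h1 _) (xor_lt (h1 _) (xor_lt (h1 _) (xor_lt (h1 _) (xor_lt (h1 _)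
      (xor_lt (h1 _) (xor_lt (h1 _) (h1 _))))))))⟩

theorem okb_triple (e : ℕ × ℕ × ℕ) : okb (triple e) = true := by
  obtain ⟨i, a, b⟩ := e
  exact okb_mul _ _

theorem okb_scal {a : M2} (ha : okb a = true) : okb (scal a) = true := by
  rw [okb_iff] at ha ⊢
  exact ⟨ha.2, xor_lt ha.1 ha.2⟩

theorem dec_key {a : M2} (ha : okb a = true) : dec (CfsgLib.J3.key a) = a := by
  rw [okb_iff] at ha
  obtain ⟨a0, a1⟩ := a
  simp only [dec, CfsgLib.J3.key, M2.mk.injEq] at *
  constructor <;> omega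

theorem scal_three (a : M2) : scal (scal (scal a)) = a := by
  obtain ⟨a0, a1⟩ := a
  simp only [scal, M2.mk.injEq]
  constructor
  · rw [Nat.xor_comm a0 a1, ← Nat.xor_assoc, Nat.xor_self, Nat.zero_xor]
  · rw [Nat.xor_comm a1 (a0 ^^^ a1), Nat.xor_assoc a0 a1 a1, Nat.xor_self, Nat.xor_zero,
      Nat.xor_comm (a0 ^^^ a1) a0, ← Nat.xor_assoc, Nat.xor_self, Nat.zero_xor]

theorem canon_scal (a : M2) : canon (scal a) = canon a := by
  simp only [canon, scal_three]
  rw [min_comm (CfsgLib.J3.key (scal a)), min_assoc, min_comm (CfsgLib.J3.key a)]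
  ac_rfl

theorem canon_eq (a : M2) :
    canon a = CfsgLib.J3.key a ∨ canon a = CfsgLib.J3.key (scal a) ∨
      canon a = CfsgLib.J3.key (scal (scal a)) := by
  unfold canon
  rcases min_choice (CfsgLib.J3.key a)
    (min (CfsgLib.J3.key (scal a)) (CfsgLib.J3.key (scal (scal a)))) with h | h
  · exact Or.inl h
  · rcases min_choice (CfsgLib.J3.key (scal a)) (CfsgLib.J3.key (scal (scal a))) with h' | h'
    · exact Or.inr (Or.inl (h.trans h'))
    · exact Or.inr (Or.inr (h.trans h'))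

theorem zc_eq : beq zc (CfsgLib.J3.mul (U 208) (V 54)) = true := by decide +kernel

variable {F : Type} [Field F] [Fintype F] {ω : F} (hF : Fintype.card F = 4) (hω : ω ^ 2 + ω + 1 = 0)

include hF hω

theorem omega_ne_zero : ω ≠ 0 := fun e => by simp [e] at hω

theorem toM_scal (a : M2) : toM F ω (scal a) = ω • toM F ω a := by
  have h2 := two_eq_zero hF
  have key : ∀ x : Bool × Bool, el F ω (x.2, Bool.xor x.1 x.2) = ω * el F ω x := by
    intro x
    have h := el_mul h2 hω (false, true) x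
    simp only [Bool.false_and, Bool.true_and, Bool.false_bne, Bool.bne_false, Bool.false_xor] at h
    simpa [el] using h
  ext r c
  simp only [toM, Matrix.of_apply, Matrix.smul_apply, smul_eq_mul, scal, bits, Nat.testBit_xor,
    ← key]

theorem scalar_cases {c : F} (hc : c ≠ 0) : c = 1 ∨ c = ω ∨ c = ω ^ 2 := by
  have h2 := two_eq_zero hF
  have h3 := pow_three hF hω hc
  have h : (c - 1) * ((c - ω) * (c - ω ^ 2)) = 0 := by
    linear_combination h3 + (-c ^ 2 + c * ω - ω + 1) * hω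
  rcases mul_eq_zero.1 h with h | h
  · exact Or.inl (sub_eq_zero.1 h)
  rcases mul_eq_zero.1 h with h | h
  · exact Or.inr (Or.inl (sub_eq_zero.1 h))
  · exact Or.inr (Or.inr (sub_eq_zero.1 h))

theorem canon_eq_of_smul {a b : M2} (ha : okb a = true) (hb : okb b = true) {c : F} (hc : c ≠ 0)
    (h : toM F ω a = c • toM F ω b) : canon a = canon b := by
  have h2 := two_eq_zero hF
  rcases scalar_cases hF hω hc with rfl | rfl | rfl
  · rw [toM_injective h2 hω ha hb (by rw [h, one_smul])]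
  · rw [← toM_scal hF hω] at h
    rw [toM_injective h2 hω ha (okb_scal hb) h, canon_scal]
  · rw [pow_two, ← smul_smul, ← toM_scal hF hω, ← toM_scal hF hω] at h
    rw [toM_injective h2 hω ha (okb_scal (okb_scal hb)) h, canon_scal, canon_scal]

theorem exists_of_canon {a : M2} (ha : okb a = true) :
    ∃ (d : M2) (c : F), c ≠ 0 ∧ okb d = true ∧ canon a = CfsgLib.J3.key d ∧
      toM F ω d = c • toM F ω a := by
  rcases canon_eq a with h | h | h
  · exact ⟨a, 1, one_ne_zero, ha, h, (one_smul _ _).symm⟩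
  · exact ⟨_, ω, omega_ne_zero hF hω, okb_scal ha, h, toM_scal hF hω a⟩
  · exact ⟨_, ω * ω, mul_ne_zero (omega_ne_zero hF hω) (omega_ne_zero hF hω),
      okb_scal (okb_scal ha), h, by rw [toM_scal hF hω, toM_scal hF hω, smul_smul]⟩

omit hF hω in
/-- The matrix of an element of the triple cover. -/
def mat (x : threeJ3 F ω) : Matrix F9 F9 F := ((x : GL F9 F) : Matrix F9 F9 F)

omit hF hω in
theorem mat_mul (x y : threeJ3 F ω) : mat (x * y) = mat x * mat y := rfl

omit hF hω in
theorem mat_injective : Function.Injective (mat (F := F) (ω := ω)) :=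
  fun _ _ h => Subtype.ext (Units.ext h)

theorem exists_code (x : threeJ3 F ω) :
    ∃ i < 6156, ∃ a < 272, ∃ b < 90, mat x = toM F ω (triple (i, a, b)) := by
  have h2 := two_eq_zero hF
  obtain ⟨i, hi, a, ha, b, hb, he⟩ :=
    (mem_GS_iff h2 hω).1 ((mem_GS_iff_exists h2 hω).2 ⟨x.1, x.2, rfl⟩)
  exact ⟨i, hi, a, ha, b, hb, by rw [triple, toM_mul h2 hω, toM_mul h2 hω]; exact he⟩

theorem exists_code' (x : threeJ3 F ω) : ∃ a : M2, okb a = true ∧ mat x = toM F ω a := by
  obtain ⟨i, -, a, -, b, -, h⟩ := exists_code hF hω x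
  exact ⟨_, okb_triple _, h⟩

/-- The code of an element. -/
noncomputable def κ (g : Spor.J3 F ω) : ℕ :=
  canon (Classical.choose (exists_code' hF hω (Quotient.out g)))

theorem κ_eq {x : threeJ3 F ω} {a : M2} (ha : okb a = true) (h : mat x = toM F ω a) :
    κ hF hω (QuotientGroup.mk x) = canon a := by
  obtain ⟨hb, hbe⟩ := Classical.choose_spec (exists_code' hF hω (Quotient.out (QuotientGroup.mk x : Spor.J3 F ω)))
  obtain ⟨⟨c, hc⟩, he⟩ := QuotientGroup.mk_out_eq_mul (Subgroup.center (threeJ3 F ω)) x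
  obtain ⟨s, hs⟩ := (mem_center_iff_scalar hF hω c).1 hc
  have hs0 : s ≠ 0 := by
    intro h0
    have h1 := (c : GL F9 F).mul_inv
    rw [hs, h0, zero_smul, zero_mul] at h1
    exact zero_ne_one h1
  refine canon_eq_of_smul hF hω hb ha hs0 ?_
  rw [← hbe, ← h]
  rw [show Quotient.out (QuotientGroup.mk x : Spor.J3 F ω) = x * c from he, mat_mul,
    show mat c = s • 1 from hs, Matrix.mul_smul, mul_one]

theorem κ_injective : Function.Injective (κ hF hω) := by
  intro g k hgk
  obtain ⟨x, rfl⟩ := QuotientGroup.mk_surjective g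
  obtain ⟨y, rfl⟩ := QuotientGroup.mk_surjective k
  obtain ⟨a, ha, hax⟩ := exists_code' hF hω x
  obtain ⟨b, hb, hby⟩ := exists_code' hF hω y
  rw [κ_eq hF hω ha hax, κ_eq hF hω hb hby] at hgk
  obtain ⟨d, c, hc, hd, hcd, hda⟩ := exists_of_canon (F := F) (ω := ω) hF hω ha
  obtain ⟨e, c', hc', he, hce, heb⟩ := exists_of_canon (F := F) (ω := ω) hF hω hb
  have hde : d = e := key_injective hd he (hcd.symm.trans (hgk.trans hce))
  subst hde
  rw [← hax] at hda
  rw [← hby] at heb
  have hxy : mat x = (c⁻¹ * c') • mat y := by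
    rw [← smul_smul, ← heb, hda, smul_smul, inv_mul_cancel₀ hc, one_smul]
  rw [QuotientGroup.eq, mem_center_iff_scalar hF hω]
  refine ⟨(c⁻¹ * c')⁻¹, ?_⟩
  have h1 : mat (x⁻¹) * mat x = 1 := by rw [← mat_mul, inv_mul_cancel]; rfl
  rw [hxy, Matrix.mul_smul] at h1
  show mat (x⁻¹ * y) = _
  rw [mat_mul]
  calc mat x⁻¹ * mat y = (c⁻¹ * c')⁻¹ • ((c⁻¹ * c') • (mat x⁻¹ * mat y)) := by
        rw [smul_smul, inv_mul_cancel₀ (mul_ne_zero (inv_ne_zero hc) hc'), one_smul]
    _ = _ := by rw [h1]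

theorem κ_mul (g k : Spor.J3 F ω) : κ hF hω (g * k) = cmul (κ hF hω g) (κ hF hω k) := by
  obtain ⟨x, rfl⟩ := QuotientGroup.mk_surjective g
  obtain ⟨y, rfl⟩ := QuotientGroup.mk_surjective k
  obtain ⟨a, ha, hax⟩ := exists_code' hF hω x
  obtain ⟨b, hb, hby⟩ := exists_code' hF hω y
  rw [κ_eq hF hω ha hax, κ_eq hF hω hb hby, ← QuotientGroup.mk_mul,
    κ_eq hF hω (okb_mul a b) (by rw [mat_mul, hax, hby, toM_mul (two_eq_zero hF) hω]), cmul]
  obtain ⟨d, c, hc, hd, hcd, hda⟩ := exists_of_canon (F := F) (ω := ω) hF hω ha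
  obtain ⟨e, c', hc', he, hce, heb⟩ := exists_of_canon (F := F) (ω := ω) hF hω hb
  rw [hcd, hce, dec_key hd, dec_key he]
  refine (canon_eq_of_smul hF hω (okb_mul d e) (okb_mul a b) (mul_ne_zero hc hc') ?_).symm
  rw [toM_mul (two_eq_zero hF) hω, toM_mul (two_eq_zero hF) hω, hda, heb, smul_mul_smul_comm]

/-- The coding. -/
noncomputable def coding : Coding (Spor.J3 F ω) where
  mul := cmul
  one := canon CfsgLib.J3.one
  κ := κ hF hω
  inj := κ_injective hF hω
  κ_one := κ_eq hF hω (x := 1) (by decide +kernel) toM_one.symm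
  κ_mul := κ_mul hF hω

theorem cert_mem : ∀ c ∈ cert.members, ∃ g, (coding hF hω).κ g = c := by
  intro c hc
  obtain ⟨h1, h3, -⟩ := mem_true
  obtain ⟨e, he, hec⟩ := List.any_eq_true.1 (List.all_eq_true.1 h3 c hc)
  have h := List.all_eq_true.1 h1 e he
  simp only [Bool.and_eq_true] at h
  obtain ⟨x, hx⟩ := exists_coe hF hω (triple_mem (F := F) (ω := ω) (two_eq_zero hF) hω h.1)
  exact ⟨QuotientGroup.mk x, (κ_eq hF hω (okb_triple _) hx).trans
    ((Nat.eq_of_beq_eq_true h.2).trans (Nat.eq_of_beq_eq_true hec))⟩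

theorem zc_inK : InK F ω (toM F ω zc) := by
  refine ⟨208, by norm_num, 54, by norm_num, ?_⟩
  rw [← toM_mul (two_eq_zero hF) hω, beq_eq zc_eq]

theorem card_centralizer_lift_le {xz : threeJ3 F ω} (hxz : mat xz = toM F ω zc) :
    Nat.card (Subgroup.centralizer ({xz} : Set (threeJ3 F ω))) ≤ 76 * 96 := by
  classical
  have h2 := two_eq_zero hF
  have hok : okb zc = true := small_facts.2.2.2.2.1
  set C := Subgroup.centralizer ({xz} : Set (threeJ3 F ω))
  -- the coset of an element commuting with the involution is fixed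
  have hdec : ∀ x : C, ∃ i ∈ fixList, ∃ k : Matrix F9 F9 F, InK F ω k ∧
      mat (x : threeJ3 F ω) = toM F ω (T i) * k ∧ i < 6156 := by
    intro x
    obtain ⟨i, hi, a, ha, b, hb, he⟩ := exists_code hF hω (x : threeJ3 F ω)
    rw [triple, toM_mul h2 hω, toM_mul h2 hω, mul_assoc] at he
    refine ⟨i, ?_, _, ⟨a, ha, b, hb, rfl⟩, he, hi⟩
    have hchk := okEZ hi
    unfold chkEZ at hchk
    generalize tEZ.get i = e at hchk
    obtain ⟨j, a', b'⟩ := e
    simp only [Bool.and_eq_true, Nat.blt_eq, Bool.or_eq_true, List.contains_eq_mem, decide_eq_true_eq,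
      Bool.not_eq_true'] at hchk
    obtain ⟨⟨⟨⟨hj, ha'⟩, hb'⟩, hz⟩, hfix⟩ := hchk
    refine hfix.resolve_left fun hne => ?_
    have hne' : j ≠ i := fun e => by simp [e] at hne
    apply hne'
    have hcomm : mat xz * mat (x : threeJ3 F ω) = mat (x : threeJ3 F ω) * mat xz := by
      rw [← mat_mul, ← mat_mul, Subgroup.mem_centralizer_singleton_iff.1 x.2]
    rw [hxz, he] at hcomm
    obtain ⟨a₁, ha₁, b₁, hb₁, h₁⟩ :=
      KS_closed h2 hω (InK_mem h2 hω ⟨a', ha', b', hb', rfl⟩) _ ⟨a, ha, b, hb, rfl⟩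
    have hzK : InK F ω (toM F ω zc) := zc_inK hF hω
    obtain ⟨a₂, ha₂, b₂, hb₂, h₃⟩ := KS_closed h2 hω (InK_mem h2 hω ⟨a, ha, b, hb, rfl⟩) _ hzK
    rw [← mul_assoc (toM F ω zc), ← toM_mul h2 hω, beq_eq hz, toM_mul h2 hω, toM_mul h2 hω,
      mul_assoc (toM F ω (T j)), mul_assoc (toM F ω (T j)), h₁, mul_assoc (toM F ω (T i)), h₃,
      ← mul_assoc, ← mul_assoc] at hcomm
    exact (cov_injective h2 hω hj hi ha₁ ha₂ hb₁ hb₂ hcomm).1
  choose i hiF k hk he hi using hdec
  -- representatives of the cosets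
  let rep : ℕ → C := fun n => if h : ∃ x : C, i x = n then h.choose else 1
  have hrep : ∀ x : C, i (rep (i x)) = i x := fun x => by
    have h : ∃ y : C, i y = i x := ⟨x, rfl⟩
    simp only [rep, dif_pos h]
    exact h.choose_spec
  have hpair : ∀ x : C, ∃ q ∈ ckList,
      mat (((rep (i x))⁻¹ * x : C) : threeJ3 F ω) = toM F ω (U q.1) * toM F ω (V q.2) := by
    intro x
    set y := rep (i x)
    have hyk : k y ∈ KS F ω := InK_mem h2 hω (hk y)
    obtain ⟨n, hn, hn1⟩ := exists_inverse h2 hω hyk (isUnit_of_mem h2 hω (KS_le_GS h2 hω hyk))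
    have hyk' : n * k y = 1 := mul_eq_one_comm.1 hn1
    obtain ⟨a, ha, b, hb, hab⟩ := KS_closed h2 hω hn (k x) (hk x)
    set w : C := y⁻¹ * x
    have hw : mat (w : threeJ3 F ω) = toM F ω (U a) * toM F ω (V b) := by
      have h1 : mat (y : threeJ3 F ω) * mat (w : threeJ3 F ω) = mat (x : threeJ3 F ω) := by
        rw [← mat_mul]; simp [w]
      rw [he y, he x, hrep x] at h1
      have hT : toM F ω (T (i x)) * k y ∈ GS F ω :=
        Submonoid.mul_mem _ (T_mem h2 hω (hi x)) (KS_le_GS h2 hω hyk)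
      refine (isUnit_of_mem h2 hω hT).mul_left_cancel ?_
      rw [h1, ← hab, mul_assoc, ← mul_assoc (k y), hn1, one_mul]
    refine ⟨(a, b), ?_, hw⟩
    have hcomm : mat xz * mat (w : threeJ3 F ω) = mat (w : threeJ3 F ω) * mat xz := by
      rw [← mat_mul, ← mat_mul, Subgroup.mem_centralizer_singleton_iff.1 w.2]
    rw [hxz, hw] at hcomm
    have hX := allFrom_spec runX a (Nat.zero_le a) (by omega)
    have hY := allFrom_spec runY b (Nat.zero_le b) (by omega)
    simp only [chkX, Bool.and_eq_true] at hX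
    simp only [chkY, Bool.and_eq_true] at hY
    obtain ⟨hui, hX⟩ := hX
    obtain ⟨hvi, hY⟩ := hY
    generalize hxe : xList.getD a (0, CfsgLib.J3.one) = ex at hX
    generalize hye : yList.getD b (0, CfsgLib.J3.one) = ey at hY
    obtain ⟨a', xv⟩ := ex
    obtain ⟨b', yv⟩ := ey
    simp only [Bool.and_eq_true, Nat.beq_eq] at hX hY
    have hxm : (a', xv) ∈ xList := by
      rw [← hxe, List.getD_eq_getElem _ _ (by rw [small_facts.2.2.1]; exact ha)]
      exact List.getElem_mem _
    have hym : (b', yv) ∈ yList := by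
      rw [← hye, List.getD_eq_getElem _ _ (by rw [small_facts.2.2.2.1]; exact hb)]
      exact List.getElem_mem _
    have hp := List.all_eq_true.1 (List.all_eq_true.1 pairs_true _ hxm) _ hym
    simp only [Bool.or_eq_true, List.any_eq_true, Bool.and_eq_true, Nat.beq_eq, Bool.not_eq_true'] at hp
    have hxy : beq xv yv = true := by
      have hu : toM F ω (uiList.getD a CfsgLib.J3.one) * toM F ω (U a) = 1 := by
        rw [← toM_mul h2 hω, beq_eq hui, toM_one]
      have hv : toM F ω (V b) * toM F ω (viList.getD b CfsgLib.J3.one) = 1 := by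
        rw [← toM_mul h2 hω, beq_eq hvi, toM_one]
      have e : xv = yv := by
        rw [← beq_eq hX.2, ← beq_eq hY.2]
        refine toM_injective h2 hω (okb_mul _ _) (okb_mul _ _) ?_
        simp only [toM_mul h2 hω]
        calc toM F ω (uiList.getD a CfsgLib.J3.one) * toM F ω zc * toM F ω (U a)
            = toM F ω (uiList.getD a CfsgLib.J3.one) * (toM F ω zc * (toM F ω (U a) * toM F ω (V b))) *
                toM F ω (viList.getD b CfsgLib.J3.one) := by
              rw [← mul_assoc (toM F ω zc), ← mul_assoc, mul_assoc _ (toM F ω (V b)), hv, mul_one,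
                ← mul_assoc]
          _ = toM F ω (uiList.getD a CfsgLib.J3.one) * (toM F ω (U a) * toM F ω (V b) * toM F ω zc) *
                toM F ω (viList.getD b CfsgLib.J3.one) := by rw [hcomm]
          _ = _ := by
              rw [← mul_assoc, ← mul_assoc, hu, one_mul]
      subst e
      simp [beq]
    rcases hp with hp | ⟨q, hq, e1, e2⟩
    · exact absurd hxy (by simp [hp])
    · have : q = (a, b) := Prod.ext (by rw [e1, hX.1]) (by rw [e2, hY.1])
      exact this ▸ hq
  choose q hqm hq using hpair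
  let f : C → {n // n ∈ fixList.toFinset} × {p // p ∈ ckList.toFinset} := fun x =>
    (⟨i x, List.mem_toFinset.2 (hiF x)⟩, ⟨q x, List.mem_toFinset.2 (hqm x)⟩)
  have hf : Function.Injective f := by
    intro x y hxy
    simp only [f, Prod.mk.injEq, Subtype.mk.injEq] at hxy
    have h := hq x
    rw [hxy.1, hxy.2, ← hq y] at h
    have := Subtype.ext (mat_injective h) (a1 := (rep (i y))⁻¹ * x) (a2 := (rep (i y))⁻¹ * y)
    exact mul_left_cancel this
  refine (Nat.card_le_card_of_injective f hf).trans ?_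
  rw [Nat.card_prod, Nat.card_eq_fintype_card, Nat.card_eq_fintype_card, Fintype.card_coe,
    Fintype.card_coe]
  exact Nat.mul_le_mul ((List.toFinset_card_le _).trans small_facts.1.le)
    ((List.toFinset_card_le _).trans small_facts.2.1.le)

theorem centralizer_bound (z : Spor.J3 F ω) (hz : (coding hF hω).κ z = cert.el cert.z) :
    Nat.card (Subgroup.centralizer ({z} : Set (Spor.J3 F ω))) ≤ cert.rs.length * cert.L.length := by
  classical
  have h2 := two_eq_zero hF
  refine bound_of_lt_two_mul (coding hF hω) cert cert_core cert_closed (cert_mem hF hω) hz ?_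
  obtain ⟨xz, hxz⟩ := exists_coe hF hω (KS_le_GS h2 hω (InK_mem h2 hω (zc_inK hF hω)))
  have hsq : xz ^ 2 = 1 := mat_injective (by
    rw [pow_two, mat_mul, show mat xz = toM F ω zc from hxz, ← toM_mul h2 hω,
      beq_eq small_facts.2.2.2.2.2.1, toM_one]
    rfl)
  have hzx : QuotientGroup.mk' (Subgroup.center (threeJ3 F ω)) xz = z := κ_injective hF hω
    ((κ_eq hF hω small_facts.2.2.2.2.1 hxz).trans
      ((Nat.eq_of_beq_eq_true small_facts.2.2.2.2.2.2).trans hz.symm))
  set π := QuotientGroup.mk' (Subgroup.center (threeJ3 F ω))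
  set C := Subgroup.centralizer ({z} : Set (Spor.J3 F ω))
  have hle : C.comap π ≤ Subgroup.centralizer ({xz} : Set (threeJ3 F ω)) := by
    intro g hg
    rw [Subgroup.mem_comap, Subgroup.mem_centralizer_singleton_iff, ← hzx] at hg
    rw [Subgroup.mem_centralizer_singleton_iff]
    exact (commute_lift hF hω (p := 2) (by norm_num) hsq hg.symm).eq.symm
  have hidx : (C.comap π).index = C.index :=
    C.index_comap_of_surjective (QuotientGroup.mk'_surjective _)
  have h1 := (C.comap π).card_mul_index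
  have h3 := C.card_mul_index
  rw [hidx, card_threeJ3 h2 hω] at h1
  rw [card_J3 hF hω] at h3
  have hpos : 0 < C.index := Nat.pos_of_ne_zero (by
    intro h0; rw [h0, mul_zero] at h3; omega)
  have hcard : Nat.card (C.comap π) = 3 * Nat.card C :=
    Nat.eq_of_mul_eq_mul_right hpos (by rw [h1, mul_assoc, h3]; norm_num)
  have hb := (Subgroup.card_le_of_le hle).trans (card_centralizer_lift_le hF hω hxz)
  rw [hcard] at hb
  rw [cert_sizes.1, cert_sizes.2]
  omega

theorem isSimple_of_equiv {Γ : Type*} [Group Γ] [Finite Γ] (ψ : Γ ≃* Spor.J3 F ω)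
    (S : Sylow 2 Γ) : (groupFusionSystem (S : Subgroup Γ)).IsSimple 2 := by
  let C : Coding Γ :=
    { mul := cmul
      one := canon CfsgLib.J3.one
      κ := fun g => (coding hF hω).κ (ψ g)
      inj := (coding hF hω).inj.comp ψ.injective
      κ_one := by simp only [map_one]; exact (coding hF hω).κ_one
      κ_mul := fun a b => by simp only [map_mul]; exact (coding hF hω).κ_mul _ _ }
  refine isSimple_of_core C cert cert_core (fun c hc => ?_) (k := 7) (o := 392445) cert_sizes.1
    (by norm_num) (by norm_num) ?_ (fun z hz => ?_) S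
  · obtain ⟨g, hg⟩ := cert_mem hF hω c hc
    exact ⟨ψ.symm g, by show (coding hF hω).κ (ψ (ψ.symm g)) = c; rw [ψ.apply_symm_apply, hg]⟩
  · rw [Nat.card_congr ψ.toEquiv, card_J3 hF hω]
    norm_num
  · refine (Nat.card_congr (ψ.toEquiv.subtypeEquiv fun x => ?_)).trans_le
      (centralizer_bound hF hω (ψ z) hz)
    simp only [Subgroup.mem_centralizer_singleton_iff, MulEquiv.toEquiv_eq_coe, MulEquiv.coe_toEquiv,
      ← map_mul, ψ.injective.eq_iff]

end CfsgLib.FusionFam.J3
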