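import Cfsg.Agent.Lib.FusionFam.J3Data
import Cfsg.Agent.Lib.Sporadic.J3.Defs

/-! Kernel evaluations for the certificate of J3. -/

set_option autoImplicit false
set_option maxRecDepth 100000

namespace CfsgLib.FusionFam.J3

open CfsgLib.J3

/-- Multiplication by a primitive cube root of unity. -/
def scal (a : M2) : M2 := ⟨a.p1, a.p0 ^^^ a.p1⟩

/-- Smallest key among the scalar multiples. -/
def canon (a : M2) : ℕ := min (CfsgLib.J3.key a) (min (CfsgLib.J3.key (scal a)) (CfsgLib.J3.key (scal (scal a))))

/-- The coded matrix with a given key. -/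
def dec (k : ℕ) : M2 := ⟨k % 2 ^ 81, k / 2 ^ 81⟩

/-- Product of codes. -/
def cmul (x y : ℕ) : ℕ := canon (CfsgLib.J3.mul (dec x) (dec y))

/-- Check of one image. -/
def chkEZ (i : ℕ) : Bool :=
  match tEZ.get i with
  | (j, a, b) => Nat.blt j 6156 && Nat.blt a 272 && Nat.blt b 90 &&
      beq (CfsgLib.J3.mul zc (T i)) (CfsgLib.J3.mul (CfsgLib.J3.mul (T j) (U a)) (V b)) &&
      (!Nat.beq j i || fixList.contains i)

/-- Check of the inverse and conjugate at a transversal element. -/
def chkX (a : ℕ) : Bool :=
  beq (CfsgLib.J3.mul (uiList.getD a CfsgLib.J3.one) (U a)) CfsgLib.J3.one &&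
    match xList.getD a (0, CfsgLib.J3.one) with
    | (a', x) => Nat.beq a' a &&
        beq (CfsgLib.J3.mul (CfsgLib.J3.mul (uiList.getD a CfsgLib.J3.one) zc) (U a)) x

/-- Check of the inverse and conjugate at an element of the small subgroup. -/
def chkY (b : ℕ) : Bool :=
  beq (CfsgLib.J3.mul (V b) (viList.getD b CfsgLib.J3.one)) CfsgLib.J3.one &&
    match yList.getD b (0, CfsgLib.J3.one) with
    | (b', y) => Nat.beq b' b &&
        beq (CfsgLib.J3.mul (CfsgLib.J3.mul (V b) zc) (viList.getD b CfsgLib.J3.one)) y

/-- Check of the centralizer in the point stabiliser. -/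
def chkPairs : Bool :=
  xList.all fun p => yList.all fun q =>
    !beq p.2 q.2 || ckList.any fun r => Nat.beq r.1 p.1 && Nat.beq r.2 q.1

theorem runEZ0 : allFrom 0 1539 chkEZ = true := by decide +kernel
theorem runEZ1 : allFrom 1539 1539 chkEZ = true := by decide +kernel
theorem runEZ2 : allFrom 3078 1539 chkEZ = true := by decide +kernel
theorem runEZ3 : allFrom 4617 1539 chkEZ = true := by decide +kernel

theorem okEZ {i : ℕ} (h : i < 6156) : chkEZ i = true := by
  rcases Nat.lt_or_ge i 1539 with h0 | h0
  · exact allFrom_spec runEZ0 i (by omega) (by omega)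
  rcases Nat.lt_or_ge i 3078 with h1 | h1
  · exact allFrom_spec runEZ1 i (by omega) (by omega)
  rcases Nat.lt_or_ge i 4617 with h2 | h2
  · exact allFrom_spec runEZ2 i (by omega) (by omega)
  exact allFrom_spec runEZ3 i (by omega) (by omega)

theorem runX : allFrom 0 272 chkX = true := by decide +kernel
theorem runY : allFrom 0 90 chkY = true := by decide +kernel
theorem pairs_true : chkPairs = true := by decide +kernel

theorem small_facts : fixList.length = 76 ∧ ckList.length = 96 ∧ xList.length = 272 ∧ yList.length = 90 ∧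
    CfsgLib.J3.okb zc = true ∧ beq (CfsgLib.J3.mul zc zc) CfsgLib.J3.one = true ∧
    Nat.beq (canon zc) (cert.el cert.z) = true := by decide +kernel

theorem mem_true : (memTab.all fun e => tripleOk e.2 && Nat.beq (canon (triple e.2)) e.1) = true ∧
    (cert.members.all fun c => memTab.any fun e => Nat.beq e.1 c) = true ∧
    (Nat.blt zc.p0 (2 ^ 81) = true) := by decide +kernel

theorem cert_core : cert.core cmul (canon CfsgLib.J3.one) = true := by decide +kernel

theorem cert_closed : cert.closedB cmul (canon CfsgLib.J3.one) closedIx = true := by decide +kernel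

theorem cert_sizes : cert.L.length = 2 ^ 7 ∧ cert.rs.length = 15 := by decide +kernel

end CfsgLib.FusionFam.J3
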