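import Mathlib.Algebra.Group.Subgroup.Finite
import Mathlib.GroupTheory.GroupAction.ConjAct
import Mathlib.GroupTheory.GroupAction.Quotient
import Mathlib.Data.List.GetD
import Mathlib.Tactic

/-!
Subgroups, conjugacy classes and element centralizers given by tables of codes.
-/

set_option autoImplicit false

namespace CfsgLib.FusionFam

/-- Coded elements of a group. -/
structure Coding (Γ : Type*) [Group Γ] where
  mul : ℕ → ℕ → ℕ
  one : ℕ
  κ : Γ → ℕ
  inj : Function.Injective κ
  κ_one : κ 1 = one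
  κ_mul : ∀ a b, κ (a * b) = mul (κ a) (κ b)

/-- Duplicate check. -/
def nodupB : List ℕ → Bool
  | [] => true
  | a :: l => !l.contains a && nodupB l

theorem nodup_of_nodupB : ∀ {l : List ℕ}, nodupB l = true → l.Nodup
  | [], _ => List.nodup_nil
  | a :: l, h => by
    simp only [nodupB, Bool.and_eq_true, Bool.not_eq_true', List.contains_eq_mem,
      decide_eq_false_iff_not] at h
    exact List.nodup_cons.2 ⟨h.1, nodup_of_nodupB h.2⟩

/-- The check of a subgroup table. -/
def tabB (mul : ℕ → ℕ → ℕ) (one : ℕ) (gens L : List ℕ) (par : List (ℕ × ℕ)) : Bool :=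
  (L.getD 0 0 == one) && decide (L.length = par.length + 1) && nodupB L &&
  (L.all fun a => gens.all fun s => L.contains (mul a s)) &&
  (List.range par.length).all fun i =>
    decide ((par.getD i (0, 0)).1 < i + 1) && decide ((par.getD i (0, 0)).2 < gens.length) &&
      (L.getD (i + 1) 0 == mul (L.getD (par.getD i (0, 0)).1 0) (gens.getD (par.getD i (0, 0)).2 0))

/-- The check of a class table. -/
def classB (mul : ℕ → ℕ → ℕ) (one z : ℕ) (gens invs K : List ℕ) (par : List (ℕ × ℕ)) : Bool :=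
  (K.getD 0 0 == z) && decide (K.length = par.length + 1) && nodupB K &&
  (List.range par.length).all fun i =>
    decide ((par.getD i (0, 0)).1 < i + 1) && decide ((par.getD i (0, 0)).2 < gens.length) &&
      (mul (gens.getD (par.getD i (0, 0)).2 0) (invs.getD (par.getD i (0, 0)).2 0) == one) &&
      decide ((par.getD i (0, 0)).2 < invs.length) &&
      (K.getD (i + 1) 0 == mul (mul (gens.getD (par.getD i (0, 0)).2 0)
        (K.getD (par.getD i (0, 0)).1 0)) (invs.getD (par.getD i (0, 0)).2 0))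

variable {Γ : Type*} [Group Γ] [Finite Γ]

theorem Coding.table (C : Coding Γ) {gens L : List ℕ} {par : List (ℕ × ℕ)}
    (h : tabB C.mul C.one gens L par = true) (hg : ∀ s ∈ gens, ∃ g : Γ, C.κ g = s) :
    ∃ H : Subgroup Γ, (∀ g, g ∈ H ↔ C.κ g ∈ L) ∧ (∀ c ∈ L, ∃ g ∈ H, C.κ g = c) ∧
      Nat.card H = L.length ∧ H = Subgroup.closure {g | C.κ g ∈ gens} := by
  simp only [tabB, Bool.and_eq_true, beq_iff_eq, decide_eq_true_eq, List.all_eq_true,
    List.mem_range, List.contains_eq_mem] at h
  obtain ⟨⟨⟨⟨h0, hlen⟩, hnd⟩, hcl⟩, hstep⟩ := h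
  set H := Subgroup.closure {g : Γ | C.κ g ∈ gens}
  have h1 : C.one ∈ L := by
    rw [← h0, List.getD_eq_getElem _ _ (by omega)]
    exact List.getElem_mem _
  have hle : ∀ g ∈ H, C.κ g ∈ L := by
    intro g hg'
    have hg'' : g ∈ Submonoid.closure {g : Γ | C.κ g ∈ gens} := by
      rwa [← Subgroup.closure_toSubmonoid_of_finite, Subgroup.mem_toSubmonoid]
    induction hg'' using Submonoid.closure_induction_right with
    | one => rwa [C.κ_one]
    | mul_right x hx y hy ih =>
      rw [C.κ_mul]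
      exact hcl _ (ih (by
        rwa [← Subgroup.mem_toSubmonoid, Subgroup.closure_toSubmonoid_of_finite])) _ hy
  have hex : ∀ i < L.length, ∃ g ∈ H, C.κ g = L.getD i 0 := by
    intro i
    induction i using Nat.strong_induction_on with
    | _ i ih =>
      intro hi
      obtain _ | i := i
      · exact ⟨1, H.one_mem, by rw [h0, C.κ_one]⟩
      · obtain ⟨⟨hp, hq⟩, he⟩ := hstep i (by omega)
        obtain ⟨a, ha, hac⟩ := ih _ hp (by omega)
        have hs : gens.getD (par.getD i (0, 0)).2 0 ∈ gens := by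
          rw [List.getD_eq_getElem _ _ hq]; exact List.getElem_mem _
        obtain ⟨b, hb⟩ := hg _ hs
        exact ⟨a * b, H.mul_mem ha (Subgroup.subset_closure
          (show C.κ b ∈ gens by rw [hb]; exact hs)),
          by rw [C.κ_mul, hac, hb, he]⟩
  have hmem : ∀ c ∈ L, ∃ g ∈ H, C.κ g = c := by
    intro c hc
    obtain ⟨i, hi, rfl⟩ := List.getElem_of_mem hc
    rw [← List.getD_eq_getElem _ 0 hi]; exact hex i hi
  refine ⟨H, fun g => ⟨hle g, fun hc => ?_⟩, hmem, ?_, rfl⟩
  · obtain ⟨a, ha, hac⟩ := hmem _ hc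
    exact C.inj hac ▸ ha
  · have himg : C.κ '' (H : Set Γ) = {c | c ∈ L} := by
      ext c
      exact ⟨fun ⟨g, hg', e⟩ => e ▸ hle g hg', fun hc => hmem c hc⟩
    rw [← SetLike.coe_sort_coe, Nat.card_coe_set_eq, ← Set.ncard_image_of_injective _ C.inj, himg,
      show {c | c ∈ L} = ((L.toFinset : Finset ℕ) : Set ℕ) by simp, Set.ncard_coe_finset,
      List.toFinset_card_of_nodup (nodup_of_nodupB hnd)]

/-- A class table bounds the centralizer from above. -/
theorem Coding.card_centralizer_mul_le (C : Coding Γ) {gens invs K : List ℕ} {par : List (ℕ × ℕ)} {z : Γ}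
    (h : classB C.mul C.one (C.κ z) gens invs K par = true)
    (hg : ∀ s ∈ gens ++ invs, ∃ g : Γ, C.κ g = s) :
    Nat.card (Subgroup.centralizer ({z} : Set Γ)) * K.length ≤ Nat.card Γ := by
  simp only [classB, Bool.and_eq_true, beq_iff_eq, decide_eq_true_eq, List.all_eq_true,
    List.mem_range] at h
  obtain ⟨⟨⟨h0, hlen⟩, hnd⟩, hstep⟩ := h
  have hex : ∀ i < K.length, ∃ x : Γ, C.κ (x * z * x⁻¹) = K.getD i 0 := by
    intro i
    induction i using Nat.strong_induction_on with
    | _ i ih =>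
      intro hi
      obtain _ | i := i
      · exact ⟨1, by rw [h0]; simp⟩
      · obtain ⟨⟨⟨⟨hp, hq⟩, hsi⟩, hq'⟩, he⟩ := hstep i (by omega)
        obtain ⟨x, hx⟩ := ih _ hp (by omega)
        obtain ⟨s, hs⟩ := hg (gens.getD (par.getD i (0, 0)).2 0) (List.mem_append_left _ (by
          rw [List.getD_eq_getElem _ _ hq]; exact List.getElem_mem _))
        obtain ⟨s', hs'⟩ := hg (invs.getD (par.getD i (0, 0)).2 0) (List.mem_append_right _ (by
          rw [List.getD_eq_getElem _ _ hq']; exact List.getElem_mem _))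
        have hinv : s' = s⁻¹ := eq_inv_of_mul_eq_one_right (C.inj (by
          rw [C.κ_mul, C.κ_one, hs, hs', hsi]))
        refine ⟨s * x, ?_⟩
        rw [he, ← hs, ← hs', ← hx, ← C.κ_mul, ← C.κ_mul, hinv]
        congr 1
        group
  classical
  have hsub : {c | c ∈ K} ⊆ C.κ '' (Set.range fun x : Γ => x * z * x⁻¹) := by
    intro c hc
    obtain ⟨i, hi, rfl⟩ := List.getElem_of_mem hc
    obtain ⟨x, hx⟩ := hex i hi
    exact ⟨_, ⟨x, rfl⟩, by rw [hx, List.getD_eq_getElem _ _ hi]⟩
  have hK : K.length ≤ (Set.range fun x : Γ => x * z * x⁻¹).ncard := by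
    rw [← Set.ncard_image_of_injective _ C.inj, ← List.toFinset_card_of_nodup (nodup_of_nodupB hnd),
      ← Set.ncard_coe_finset]
    refine Set.ncard_le_ncard ?_ ((Set.toFinite _).image _)
    simpa using hsub
  have horb : MulAction.orbit (ConjAct Γ) z = Set.range fun x : Γ => x * z * x⁻¹ := by
    ext y
    simp only [MulAction.mem_orbit_iff, Set.mem_range, ConjAct.smul_def]
    exact ⟨fun ⟨x, hx⟩ => ⟨ConjAct.ofConjAct x, hx⟩, fun ⟨x, hx⟩ => ⟨ConjAct.toConjAct x, hx⟩⟩
  have hos := Nat.card_congr (MulAction.orbitProdStabilizerEquivGroup (ConjAct Γ) z)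
  rw [Nat.card_prod, ConjAct.stabilizer_eq_centralizer, Nat.card_coe_set_eq, horb] at hos
  calc Nat.card (Subgroup.centralizer ({z} : Set Γ)) * K.length
      ≤ Nat.card (Subgroup.centralizer ({z} : Set Γ)) * (Set.range fun x : Γ => x * z * x⁻¹).ncard :=
        Nat.mul_le_mul_left _ hK
    _ = Nat.card Γ := by
        rw [mul_comm]
        exact hos

end CfsgLib.FusionFam
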